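import Cfsg.Agent.H790.Frm.ChevRows
import Cfsg.Agent.H790.Frm.TwE6
import Cfsg.Agent.H790.Frm.TwD4
import Cfsg.Agent.S0060
import Cfsg.Agent.S1157

/-!
# `MeetIn 2` for the exceptional groups of odd characteristic (helper790; S5760, `p = 2`)

`meet2_G2`, `meet2_D4`, `meet2_F4`, `meet2_E6`, `meet2_E7`, `meet2_E8`, `meet2_2E6`, `meet2_3D4`, `meet2_Ree`.
-/

set_option autoImplicit false

namespace Cfsg.Agent.H790.Frm.Rows

open Cfsg.Lie H68.MeetB
open scoped Pointwise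

/-- simple groups with abelian Sylow `p`-subgroups (Brodkey) -/
theorem meetIn_of_comm {p : ℕ} [Fact p.Prime] {T : Type*} [Group T] [Finite T] [IsSimpleGroup T]
    (hT : ¬ IsMulCommutative T)
    (hc : ∀ S : Subgroup T, IsPGroup p S → ∀ x ∈ S, ∀ y ∈ S, x * y = y * x) : MeetIn p T := by
  obtain ⟨S⟩ : Nonempty (Sylow p T) := inferInstance
  have hScomm : IsMulCommutative S := ⟨⟨fun a b => Subtype.ext (hc S S.isPGroup' _ a.2 _ b.2)⟩⟩
  have hOp : Cfsg.pCore p T = ⊥ := by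
    unfold Cfsg.pCore
    rw [sSup_eq_bot]
    rintro N ⟨hNn, hNp⟩
    rcases hNn.eq_bot_or_eq_top with h | h
    · exact h
    · exfalso
      apply hT
      exact ⟨⟨fun a b => hc N hNp a (by rw [h]; trivial) b (by rw [h]; trivial)⟩⟩
  obtain ⟨g, hg⟩ := Cfsg.Agent.S0060.result p S hScomm hOp
  refine MeetIn.of_one (S : Subgroup T) S.isPGroup' S.not_dvd_index ⟨g⁻¹, fun y hy hxy => ?_⟩
  have h2 : y ∈ (S : Subgroup T) ⊓ MulAut.conj g • (S : Subgroup T) := by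
    rw [inv_inv] at hxy
    exact ⟨hy, g⁻¹ * y * g, hxy, by simp [MulAut.conj_apply, mul_assoc]⟩
  rw [hg, Subgroup.mem_bot] at h2
  exact h2

theorem meet2_Ree {T : Type*} [Group T] [Finite T] [IsSimpleGroup T] (hT : ¬ IsMulCommutative T)
    (h : IsoRee T) : MeetIn 2 T := by
  refine meetIn_of_comm hT fun S hS => ?_
  obtain ⟨F, _, _, m, hm, hF, ⟨e⟩⟩ := h
  have hfin : Finite ↥(twistedG2 F (3 ^ m)) := Finite.of_equiv T e.toEquiv
  obtain ⟨P, hP⟩ := (hS.map e.toMonoidHom).exists_le_sylow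
  obtain ⟨hc, -⟩ := S1157.result hm hF P
  intro x hx y hy
  have h3 : e x ∈ P := hP ⟨x, hx, rfl⟩
  have h4 : e y ∈ Subgroup.centralizer ((P : Subgroup ↥(twistedG2 F (3 ^ m))) : Set ↥(twistedG2 F (3 ^ m))) := by
    rw [hc]
    exact hP ⟨y, hy, rfl⟩
  rw [Subgroup.mem_centralizer_iff] at h4
  apply e.injective
  rw [map_mul, map_mul]
  exact h4 _ h3

theorem meet2_G2 (K : Type) [Field K] [Fintype K] (hK : Odd (Fintype.card K)) : MeetIn 2 ↥(chevG2.group K) :=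
  Chev.meet2_G2 K hK

theorem meet2_D4 (K : Type) [Field K] [Fintype K] (hK : Odd (Fintype.card K)) : MeetIn 2 ↥(chevD4.group K) :=
  Chev.meet2_D4 K hK

theorem meet2_F4 (K : Type) [Field K] [Fintype K] (hK : Odd (Fintype.card K)) : MeetIn 2 ↥(chevF4.group K) :=
  Chev.meet2_F4 K hK

theorem meet2_E6 (K : Type) [Field K] [Fintype K] (hK : Odd (Fintype.card K)) : MeetIn 2 ↥(chevE6.group K) :=
  Chev.meet2_E6 K hK

theorem meet2_E7 (K : Type) [Field K] [Fintype K] (hK : Odd (Fintype.card K)) : MeetIn 2 ↥(chevE7.group K) :=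
  Chev.meet2_E7 K hK

theorem meet2_E8 (K : Type) [Field K] [Fintype K] (hK : Odd (Fintype.card K)) : MeetIn 2 ↥(chevE8.group K) :=
  Chev.meet2_E8 K hK

theorem meet2_2E6 {K : Type} [Field K] [Fintype K] {q : ℕ} (hq : IsPrimePow q) (hK : Fintype.card K = q ^ 2)
    (ho : Odd q) : MeetIn 2 ↥(twistedE6 K q) := Fold.TE6.meet2 hq hK ho

theorem meet2_3D4 {K : Type} [Field K] [Fintype K] {q : ℕ} (hq : IsPrimePow q) (hK : Fintype.card K = q ^ 3)
    (ho : Odd q) : MeetIn 2 ↥(twistedD4 K q) := Fold.TD4.meet2 hq hK ho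

end Cfsg.Agent.H790.Frm.Rows
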